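import Groth.Agent.Lib.RDer24.EdgeIso
import Groth.Agent.Lib.EtStalk.Flasque
import Groth.Prelude.Def_EtDual
import Mathlib.Algebra.Homology.HomologicalComplexAbelian
import Mathlib.Algebra.Homology.HomologySequence

/-!
# The exact sequence of local cohomology sheaves
-/

set_option autoImplicit false

universe u

open CategoryTheory CategoryTheory.Limits AlgebraicGeometry Opposite

namespace Groth.Agent.LocCoh24

variable {X U : Scheme.{u}} (j : U ⟶ X) [IsOpenImmersion j] [AlgebraicGeometry.Etale j]

theorem epi_unit_injective (I : EtCoh.Ab X) [Injective I] : Epi (EtDual.unitApp j I) := by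
  haveI : EtShriek.JCont j := EtStalk.jCont j
  have e : EtDual.unitApp j I = (EtStalk.restrPushAdj j).unit.app I ≫
      (EtCoh.push j).map ((EtStalk.restrPullIso j).hom.app I) :=
    ((EtStalk.restrPushAdj j).unit_leftAdjointUniq_hom_app (EtCoh.pullPushAdj j) I).symm
  rw [e]
  haveI : Epi ((EtStalk.restrPushAdj j).unit.app I) := by
    rw [← Sheaf.isLocallySurjective_iff_epi']
    refine ⟨fun {V} s => ?_⟩
    let c := (EtStalk.compBcAdj j).counit.app V
    haveI : Mono c := by
      refine ⟨fun {Z} a b h => MorphismProperty.Over.Hom.ext ?_⟩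
      haveI : Mono (pullback.fst V.hom j) := inferInstance
      exact (cancel_mono (pullback.fst V.hom j)).1 (congrArg (fun t => t.left) h)
    obtain ⟨t, ht⟩ := EtStalk.surjective_map_of_injective I c s
    convert X.smallEtaleTopology.top_mem V using 1
    ext W i
    refine ⟨fun _ => trivial, fun _ => ⟨I.obj.map i.op t, ?_⟩⟩
    refine (NatTrans.naturality_apply ((EtStalk.restrPushAdj j).unit.app I).hom i.op t).trans
      (congrArg (((EtCoh.push j).obj ((EtShriek.restrAlong j).obj I)).obj.map i.op) ?_)
    exact ht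
  exact epi_comp _ _

/-- Sections supported off `U` inside all sections. -/
noncomputable def incl : EtDual.secSupp j ⟶ 𝟭 (EtCoh.Ab X) where
  app G := kernel.ι (EtDual.unitApp j G)
  naturality G G' a := by simp

theorem seq_main [PreservesFiniteLimits (EtCoh.pull j)] (F : EtCoh.Ab X) :
    Nonempty (cokernel (EtDual.unitApp j F) ≅ (EtDual.locCoh j 1).obj F) ∧
      ∀ p : ℕ, 1 ≤ p →
        Nonempty ((EtCoh.Rpush j p).obj ((EtCoh.pull j).obj F) ≅ (EtDual.locCoh j (p + 1)).obj F) := by
  haveI : PreservesLimitsOfSize.{0, 0} (EtCoh.push j) := (EtCoh.pullPushAdj j).rightAdjoint_preservesLimits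
  haveI : PreservesFiniteLimits (EtCoh.push j) := PreservesLimitsOfSize.preservesFiniteLimits _
  haveI : PreservesFiniteLimits (EtCoh.pull j ⋙ EtCoh.push j) := comp_preservesFiniteLimits _ _
  let R := injectiveResolution F
  let unit : 𝟭 (EtCoh.Ab X) ⟶ EtCoh.pull j ⋙ EtCoh.push j := (EtCoh.pullPushAdj j).unit
  let S : ShortComplex (CochainComplex (EtCoh.Ab X) ℕ) :=
    ShortComplex.mk ((NatTrans.mapHomologicalComplex (incl j) _).app R.cocomplex ≫
        (Functor.mapHomologicalComplexIdIso (EtCoh.Ab X) (ComplexShape.up ℕ)).hom.app R.cocomplex)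
      ((Functor.mapHomologicalComplexIdIso (EtCoh.Ab X) (ComplexShape.up ℕ)).inv.app R.cocomplex ≫
        (NatTrans.mapHomologicalComplex unit _).app R.cocomplex)
      (by
        apply HomologicalComplex.hom_ext
        intro n
        simp [incl, unit]
        exact kernel.condition (EtDual.unitApp j (R.cocomplex.X n)))
  have hS : S.ShortExact := by
    refine HomologicalComplex.shortExact_of_degreewise_shortExact S fun n => ?_
    haveI := R.injective n
    haveI := epi_unit_injective j (R.cocomplex.X n)
    let T := ShortComplex.mk (kernel.ι (EtDual.unitApp j (R.cocomplex.X n)))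
      (EtDual.unitApp j (R.cocomplex.X n)) (kernel.condition _)
    have hT : T.ShortExact :=
      { exact := ShortComplex.exact_of_f_is_kernel _ (kernelIsKernel _) }
    refine ShortComplex.shortExact_of_iso ?_ hT
    exact ShortComplex.isoMk (Iso.refl _) (Iso.refl _) (Iso.refl _) (by simp [S, T, incl]; rfl)
      (by simp [S, T, unit]; rfl)
  have hz : ∀ n : ℕ, IsZero (HomologicalComplex.homology S.X₂ (n + 1)) := fun n =>
    (HomologicalComplex.exactAt_iff_isZero_homology _ _).1 (R.cocomplex_exactAt_succ n)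
  refine ⟨?_, fun p hp => ?_⟩
  · have hex := hS.homology_exact₁ 0 1 rfl
    have hex3 := hS.homology_exact₃ 0 1 rfl
    haveI : Epi (hS.δ 0 1 rfl) := hex.epi_f ((hz 0).eq_of_tgt _ _)
    let e₁ : cokernel (HomologicalComplex.homologyMap S.g 0) ≅ S.X₁.homology 1 :=
      (cokernelIsCokernel _).coconePointUniqueUpToIso hex3.gIsCokernel
    let Φ := EtCoh.pull j ⋙ EtCoh.push j
    haveI := RDer24.quasiIsoAt_zero_mapAug Φ F
    haveI : QuasiIsoAt R.ι 0 := inferInstance
    let a : F ≅ S.X₂.homology 0 :=
      (HomologicalComplex.singleObjHomologySelfIso (ComplexShape.up ℕ) 0 F).symm ≪≫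
        asIso (HomologicalComplex.homologyMap R.ι 0)
    let b : Φ.obj F ≅ S.X₃.homology 0 :=
      (HomologicalComplex.singleObjHomologySelfIso (ComplexShape.up ℕ) 0 (Φ.obj F)).symm ≪≫
        asIso (HomologicalComplex.homologyMap (RDer.mapAug Φ R.ι) 0)
    have key : (HomologicalComplex.single (EtCoh.Ab X) (ComplexShape.up ℕ) 0).map (unit.app F) ≫
        RDer.mapAug Φ R.ι = R.ι ≫ S.g := by
      apply HomologicalComplex.from_single_hom_ext
      simp [S, RDer.mapAug, unit, Φ]
      have := unit.naturality (R.ι.f 0)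
      exact this.symm
    have hw : EtDual.unitApp j F ≫ b.hom = a.hom ≫ HomologicalComplex.homologyMap S.g 0 := by
      show unit.app F ≫ ((HomologicalComplex.singleObjHomologySelfIso (ComplexShape.up ℕ) 0 (Φ.obj F)).inv ≫
          HomologicalComplex.homologyMap (RDer.mapAug Φ R.ι) 0) =
        ((HomologicalComplex.singleObjHomologySelfIso (ComplexShape.up ℕ) 0 F).inv ≫
          HomologicalComplex.homologyMap R.ι 0) ≫ HomologicalComplex.homologyMap S.g 0
      let M := HomologicalComplex.homologyMap (RDer.mapAug Φ R.ι) 0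
      refine ((Category.assoc _ _ M).symm.trans ((congrArg (· ≫ M)
        (HomologicalComplex.singleObjHomologySelfIso_inv_naturality (ComplexShape.up ℕ) 0 (unit.app F)).symm).trans
          (Category.assoc _ _ M))).trans ?_
      refine (congrArg (fun t => (HomologicalComplex.singleObjHomologySelfIso (ComplexShape.up ℕ) 0 F).inv ≫ t)
        ((HomologicalComplex.homologyMap_comp _ _ 0).symm.trans ((congrArg (HomologicalComplex.homologyMap · 0) key).trans
          (HomologicalComplex.homologyMap_comp _ _ 0)))).trans ?_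
      exact (Category.assoc _ _ _).symm
    exact ⟨cokernel.mapIso _ _ a b hw ≪≫ e₁ ≪≫ (R.isoRightDerivedObj (EtDual.secSupp j) 1).symm⟩
  · obtain ⟨p, rfl⟩ := Nat.exists_eq_add_one.2 hp
    haveI : IsIso (hS.δ (p + 1) (p + 1 + 1) rfl) := hS.isIso_δ (p + 1) (p + 1 + 1) rfl (hz p) (hz (p + 1))
    haveI : (EtCoh.pull j).PreservesHomology := inferInstance
    let J : InjectiveResolution ((EtCoh.pull j).obj F) :=
      { cocomplex := ((EtCoh.pull j).mapHomologicalComplex _).obj R.cocomplex
        injective := fun n => haveI := R.injective n; EtStalk.injective_pull j (R.cocomplex.X n)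
        ι := RDer.mapAug (EtCoh.pull j) R.ι }
    exact ⟨J.isoRightDerivedObj (EtCoh.push j) (p + 1) ≪≫
      @asIso _ _ _ _ (hS.δ (p + 1) (p + 1 + 1) rfl) (hS.isIso_δ _ _ rfl (hz p) (hz (p + 1))) ≪≫
      (R.isoRightDerivedObj (EtDual.secSupp j) (p + 1 + 1)).symm⟩

end Groth.Agent.LocCoh24
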